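import Groth.Agent.H9Misc.DRingLBase
import Mathlib

/-!
# Bounded complexes of finite projective modules descend along filtered colimits of rings

Each term is the image of an idempotent matrix, so only finitely many matrix entries and
finitely many equations between them have to be descended.
-/

set_option linter.style.haveILetI false

universe u

open CategoryTheory CategoryTheory.Limits Matrix

namespace Groth.Agent.PerfDesc

section Stage

variable {J : Type u} [SmallCategory J] [IsFiltered J] {F : J ⥤ CommRingCat.{u}} {c : Cocone F}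
  (hc : IsColimit c)

include hc in
/-- Finitely many elements of the colimit come from one stage. -/
theorem exists_lift {κ : Type*} [Finite κ] (f : κ → c.pt) :
    ∃ (j : J) (g : κ → F.obj j), ∀ x, (c.ι.app j).hom (g x) = f x := by
  classical
  letI := Fintype.ofFinite κ
  have hs := Types.jointly_surjective _ (isColimitOfPreserves (forget CommRingCat) hc)
  choose i y hy using fun x => hs (f x)
  obtain ⟨j, hj⟩ := IsFiltered.sup_objs_exists (Finset.univ.image i)
  choose a ha using fun x => (⟨(hj (Finset.mem_image_of_mem i (Finset.mem_univ x))).some, trivial⟩ :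
    ∃ a : i x ⟶ j, True)
  refine ⟨j, fun x => (F.map (a x)).hom (y x), fun x => ?_⟩
  exact ((CommRingCat.comp_apply _ _ _).symm.trans
    (congrArg (fun t : F.obj (i x) ⟶ c.pt => t.hom (y x)) (c.w (a x)))).trans (hy x)

include hc in
/-- Finitely many equalities in the colimit hold at one stage. -/
theorem exists_eq {κ : Type*} [Finite κ] {j : J} (f g : κ → F.obj j)
    (h : ∀ x, (c.ι.app j).hom (f x) = (c.ι.app j).hom (g x)) :
    ∃ (k : J) (a : j ⟶ k), ∀ x, (F.map a).hom (f x) = (F.map a).hom (g x) := by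
  classical
  letI := Fintype.ofFinite κ
  have h' : ∀ x, ∃ (k : J) (a : j ⟶ k), (F.map a).hom (f x) = (F.map a).hom (g x) := fun x =>
    (Types.FilteredColimit.isColimit_eq_iff' (isColimitOfPreserves (forget CommRingCat) hc) (f x) (g x)).1 (h x)
  choose k a ha using h'
  obtain ⟨l, hl, hcomm⟩ := IsFiltered.sup_exists (insert j (Finset.univ.image k))
    (Finset.univ.image fun x => ⟨j, k x, Finset.mem_insert_self _ _,
      Finset.mem_insert_of_mem (Finset.mem_image_of_mem k (Finset.mem_univ x)), a x⟩)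
  refine ⟨l, hl (Finset.mem_insert_self _ _), fun x => ?_⟩
  have e := hcomm (Finset.mem_insert_self _ _)
    (Finset.mem_insert_of_mem (Finset.mem_image_of_mem k (Finset.mem_univ x)))
    (Finset.mem_image_of_mem _ (Finset.mem_univ x))
  rw [← e, F.map_comp, CommRingCat.comp_apply, CommRingCat.comp_apply, ha x]

end Stage

section Free

variable {A B : Type u} [CommRing A] [CommRing B] (φ : A →+* B)

/-- The standard free module. -/
abbrev free (A : Type u) [CommRing A] (m : ℕ) : ModuleCat.{u} A := ModuleCat.of A (Fin m → A)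

/-- The morphism given by a matrix. -/
noncomputable abbrev mat {m n : ℕ} (M : Matrix (Fin n) (Fin m) A) : free A m ⟶ free A n :=
  ModuleCat.ofHom (Matrix.toLin' M)

lemma mat_comp {m n l : ℕ} (M : Matrix (Fin n) (Fin m) A) (N : Matrix (Fin l) (Fin n) A) :
    mat M ≫ mat N = mat (N * M) :=
  ModuleCat.hom_ext (Matrix.toLin'_mul N M).symm

lemma mat_zero {m n : ℕ} : mat (0 : Matrix (Fin n) (Fin m) A) = 0 :=
  ModuleCat.hom_ext ((Matrix.toLin' (R := A) (m := Fin n) (n := Fin m)).map_zero)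

/-- Extension of scalars of a free module. -/
noncomputable def freeIso (m : ℕ) : (ModuleCat.extendScalars.{u, u, u} φ).obj (free A m) ≅ free B m :=
  letI := φ.toAlgebra
  LinearEquiv.toModuleIso
    (m₁ := ((ModuleCat.extendScalars.{u, u, u} φ).obj (free A m)).isModule)
    (m₂ := (free B m).isModule)
    (TensorProduct.piScalarRight A B B (Fin m))

lemma freeIso_one_tmul (m : ℕ) (v : Fin m → A) :
    letI := φ.toAlgebra
    (freeIso φ m).hom.hom ((1 : B) ⊗ₜ[A] v) = fun i => φ (v i) := by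
  letI := φ.toAlgebra
  funext i
  change TensorProduct.piScalarRightHom A B B (Fin m) ((1 : B) ⊗ₜ[A] v) i = _
  rw [TensorProduct.piScalarRightHom_tmul]
  change φ (v i) * 1 = φ (v i)
  rw [mul_one]

/-- The identification is natural in matrices. -/
lemma freeIso_naturality {m n : ℕ} (M : Matrix (Fin n) (Fin m) A) :
    (ModuleCat.extendScalars.{u, u, u} φ).map (mat M) ≫ (freeIso φ n).hom =
      (freeIso φ m).hom ≫ mat (M.map φ) := by
  letI := φ.toAlgebra
  refine ModuleCat.ExtendScalars.hom_ext fun v => ?_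
  refine ((ModuleCat.comp_apply _ _ _).trans
    (congrArg _ (ModuleCat.ExtendScalars.map_tmul φ (mat M) (1 : B) v))).trans ?_
  refine (freeIso_one_tmul φ n (Matrix.toLin' M v)).trans ?_
  refine Eq.trans ?_ (ModuleCat.comp_apply _ _ _).symm
  refine Eq.trans ?_ (congrArg _ (freeIso_one_tmul φ m v).symm)
  refine Eq.trans ?_ (Matrix.toLin'_apply _ _).symm
  exact funext fun i => RingHom.map_mulVec φ M v i

end Free

section Cx

open Groth.Agent.H9Misc.DRingLTensor

/-- A bounded complex of finite projective modules over a filtered colimit of rings comes from a stage. -/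
theorem exists_complex {J : Type u} [SmallCategory J] [IsFiltered J] {F : J ⥤ CommRingCat.{u}}
    {c : Cocone F} (hc : IsColimit c) (E : CochainComplex (ModuleCat.{u} c.pt) ℤ) {a b : ℤ}
    (hz : DRing.VanishesOutside E a b) (hp : DRing.TermwiseFiniteProjective E) :
    ∃ (j : J) (Ej : CochainComplex (ModuleCat.{u} (F.obj j)) ℤ),
      DRing.VanishesOutside Ej a b ∧ DRing.TermwiseFiniteProjective Ej ∧
        Nonempty ((extC' (c.ι.app j).hom).obj Ej ≅ E) := by
  classical
  have hret : ∀ n, ∃ (m : ℕ) (π : free c.pt m ⟶ E.X n) (ι : E.X n ⟶ free c.pt m),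
      ι ≫ π = 𝟙 _ ∧ ((n < a ∨ b < n) → m = 0) := fun n => by
    by_cases h : n < a ∨ b < n
    · exact ⟨0, 0, 0, (hz n h).eq_of_src _ _, fun _ => rfl⟩
    · haveI := (hp n).1
      haveI := (hp n).2
      obtain ⟨m, f, g, -, -, hfg⟩ := Module.Finite.exists_comp_eq_id_of_projective c.pt (E.X n)
      exact ⟨m, ModuleCat.ofHom f, ModuleCat.ofHom g, ModuleCat.hom_ext hfg, fun h' => absurd h' h⟩
  choose m π ι hιπ hm using hret
  have hιπ' : ∀ n {Z : ModuleCat.{u} c.pt} (h : E.X n ⟶ Z), ι n ≫ π n ≫ h = h := fun n Z h => by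
    rw [← Category.assoc, hιπ, Category.id_comp]
  let P : ∀ n, Matrix (Fin (m n)) (Fin (m n)) c.pt := fun n => LinearMap.toMatrix' (π n ≫ ι n).hom
  let D : ∀ n, Matrix (Fin (m (n + 1))) (Fin (m n)) c.pt := fun n =>
    LinearMap.toMatrix' (π n ≫ E.d n (n + 1) ≫ ι (n + 1)).hom
  have hP : ∀ n, mat (P n) = π n ≫ ι n := fun n => ModuleCat.hom_ext (Matrix.toLin'_toMatrix' _)
  have hD : ∀ n, mat (D n) = π n ≫ E.d n (n + 1) ≫ ι (n + 1) := fun n =>
    ModuleCat.hom_ext (Matrix.toLin'_toMatrix' _)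
  have inj : ∀ {p q : ℕ} (M N : Matrix (Fin q) (Fin p) c.pt), mat M = mat N → M = N := fun M N h =>
    Matrix.toLin'.injective (congrArg ModuleCat.Hom.hom h)
  -- lift the entries
  let I := ↥(Finset.Icc a b)
  let κ := (Σ n : I, (Fin (m n) × Fin (m n)) ⊕ (Fin (m (n + 1)) × Fin (m n)))
  obtain ⟨j₀, g, hg⟩ := exists_lift hc
    (fun x : κ => Sum.elim (fun e => P x.1 e.1 e.2) (fun e => D x.1 e.1 e.2) x.2)
  have hout : ∀ n, n ∉ Finset.Icc a b → IsEmpty (Fin (m n)) := fun n hn => by
    rw [hm n (by simp only [Finset.mem_Icc, not_and_or, not_le] at hn; exact hn)]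
    infer_instance
  let P₀ : ∀ n, Matrix (Fin (m n)) (Fin (m n)) (F.obj j₀) := fun n s t =>
    if hn : n ∈ Finset.Icc a b then g ⟨⟨n, hn⟩, Sum.inl (s, t)⟩ else 0
  let D₀ : ∀ n, Matrix (Fin (m (n + 1))) (Fin (m n)) (F.obj j₀) := fun n s t =>
    if hn : n ∈ Finset.Icc a b then g ⟨⟨n, hn⟩, Sum.inr (s, t)⟩ else 0
  have hP₀ : ∀ n, (P₀ n).map (c.ι.app j₀).hom = P n := fun n => by
    ext s t
    by_cases hn : n ∈ Finset.Icc a b
    · simp only [Matrix.map_apply, P₀, dif_pos hn]
      exact hg ⟨⟨n, hn⟩, Sum.inl (s, t)⟩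
    · exact (hout n hn).elim t
  have hD₀ : ∀ n, (D₀ n).map (c.ι.app j₀).hom = D n := fun n => by
    ext s t
    by_cases hn : n ∈ Finset.Icc a b
    · simp only [Matrix.map_apply, D₀, dif_pos hn]
      exact hg ⟨⟨n, hn⟩, Sum.inr (s, t)⟩
    · exact (hout n hn).elim t
  -- the equations
  have hPP : ∀ n, P n * P n = P n := fun n => inj _ _ (by
    rw [← mat_comp, hP, Category.assoc, hιπ'])
  have hPD : ∀ n, P (n + 1) * D n = D n := fun n => inj _ _ (by
    rw [← mat_comp, hP, hD, Category.assoc, Category.assoc, hιπ'])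
  have hDP : ∀ n, D n * P n = D n := fun n => inj _ _ (by
    rw [← mat_comp, hP, hD, Category.assoc, hιπ'])
  have hDD : ∀ n, D (n + 1) * D n = 0 := fun n => inj _ _ (by
    rw [← mat_comp, hD, hD, mat_zero, Category.assoc, Category.assoc, hιπ', HomologicalComplex.d_comp_d_assoc,
      zero_comp, comp_zero])
  let φ := (c.ι.app j₀).hom
  let κ' := (Σ n : I, ((Fin (m n) × Fin (m n)) ⊕ (Fin (m (n + 1)) × Fin (m n))) ⊕
    ((Fin (m (n + 1)) × Fin (m n)) ⊕ (Fin (m (n + 1 + 1)) × Fin (m n))))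
  let lhs : κ' → F.obj j₀ := fun x => Sum.elim
    (Sum.elim (fun e => (P₀ x.1 * P₀ x.1) e.1 e.2) (fun e => (P₀ (x.1 + 1) * D₀ x.1) e.1 e.2))
    (Sum.elim (fun e => (D₀ x.1 * P₀ x.1) e.1 e.2) (fun e => (D₀ (x.1 + 1) * D₀ x.1) e.1 e.2)) x.2
  let rhs : κ' → F.obj j₀ := fun x => Sum.elim
    (Sum.elim (fun e => P₀ x.1 e.1 e.2) (fun e => D₀ x.1 e.1 e.2))
    (Sum.elim (fun e => D₀ x.1 e.1 e.2) (fun _ => 0)) x.2
  obtain ⟨j, t, ht⟩ := exists_eq hc lhs rhs (by
    rintro ⟨n, ((e | e) | (e | e))⟩ <;> simp only [lhs, rhs, Sum.elim_inl, Sum.elim_inr]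
    · change ((P₀ n * P₀ n).map φ) e.1 e.2 = (P₀ n).map φ e.1 e.2
      rw [Matrix.map_mul, hP₀, hPP]
    · change ((P₀ (n + 1) * D₀ n).map φ) e.1 e.2 = (D₀ n).map φ e.1 e.2
      rw [Matrix.map_mul, hP₀, hD₀, hPD]
    · change ((D₀ n * P₀ n).map φ) e.1 e.2 = (D₀ n).map φ e.1 e.2
      rw [Matrix.map_mul, hP₀, hD₀, hDP]
    · change ((D₀ (n + 1) * D₀ n).map φ) e.1 e.2 = φ 0
      rw [Matrix.map_mul, hD₀, hD₀, hDD, map_zero]
      rfl)
  let χ := (F.map t).hom
  let ψ := (c.ι.app j).hom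
  have hψ : ∀ x, ψ (χ x) = φ x := fun x =>
    (CommRingCat.comp_apply _ _ _).symm.trans (congrArg (fun r : F.obj j₀ ⟶ c.pt => r.hom x) (c.w t))
  let P' := fun n => (P₀ n).map χ
  let D' := fun n => (D₀ n).map χ
  have hP' : ∀ n, (P' n).map ψ = P n := fun n => by
    rw [← hP₀ n]; ext s v; exact hψ _
  have hD' : ∀ n, (D' n).map ψ = D n := fun n => by
    rw [← hD₀ n]; ext s v; exact hψ _
  have ePP : ∀ n, P' n * P' n = P' n := fun n => by
    rw [← Matrix.map_mul]
    ext s v
    by_cases hn : n ∈ Finset.Icc a b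
    · exact ht ⟨⟨n, hn⟩, Sum.inl (Sum.inl (s, v))⟩
    · exact (hout n hn).elim v
  have ePD : ∀ n, P' (n + 1) * D' n = D' n := fun n => by
    rw [← Matrix.map_mul]
    ext s v
    by_cases hn : n ∈ Finset.Icc a b
    · exact ht ⟨⟨n, hn⟩, Sum.inl (Sum.inr (s, v))⟩
    · exact (hout n hn).elim v
  have eDP : ∀ n, D' n * P' n = D' n := fun n => by
    rw [← Matrix.map_mul]
    ext s v
    by_cases hn : n ∈ Finset.Icc a b
    · exact ht ⟨⟨n, hn⟩, Sum.inr (Sum.inl (s, v))⟩
    · exact (hout n hn).elim v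
  have eDD : ∀ n, D' (n + 1) * D' n = 0 := fun n => by
    rw [← Matrix.map_mul]
    ext s v
    by_cases hn : n ∈ Finset.Icc a b
    · exact (ht ⟨⟨n, hn⟩, Sum.inr (Sum.inr (s, v))⟩).trans (map_zero χ)
    · exact (hout n hn).elim v
  -- the complex at stage `j`
  let X : ℤ → ModuleCat.{u} (F.obj j) := fun n =>
    ModuleCat.of (F.obj j) (LinearMap.range (Matrix.toLin' (P' n)))
  let incl : ∀ n, X n ⟶ free (F.obj j) (m n) := fun n =>
    ModuleCat.ofHom (LinearMap.range (Matrix.toLin' (P' n))).subtype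
  let p : ∀ n, free (F.obj j) (m n) ⟶ X n := fun n =>
    ModuleCat.ofHom (Matrix.toLin' (P' n)).rangeRestrict
  have hpi : ∀ n, p n ≫ incl n = mat (P' n) := fun n => rfl
  have hiP : ∀ n, incl n ≫ mat (P' n) = incl n := fun n => by
    refine ModuleCat.hom_ext (LinearMap.ext fun x => ?_)
    obtain ⟨v, hv⟩ := x.2
    change Matrix.toLin' (P' n) x.1 = x.1
    rw [← hv, ← LinearMap.comp_apply, ← Matrix.toLin'_mul, ePP]
  have hip : ∀ n, incl n ≫ p n = 𝟙 _ := fun n =>
    ModuleCat.hom_ext (LinearMap.ext fun x => Subtype.ext (congrArg (fun r => r.hom x) (hiP n)))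
  let dd : ∀ n, X n ⟶ X (n + 1) := fun n => incl n ≫ mat (D' n) ≫ p (n + 1)
  have hdd : ∀ n, dd n ≫ dd (n + 1) = 0 := fun n => by
    simp only [dd, Category.assoc]
    rw [reassoc_of% hpi, reassoc_of% (mat_comp (D' n) (P' (n + 1))), ePD,
      reassoc_of% (mat_comp (D' n) (D' (n + 1))), eDD, mat_zero, zero_comp, comp_zero]
  let Ej : CochainComplex (ModuleCat.{u} (F.obj j)) ℤ := CochainComplex.of X dd hdd
  refine ⟨j, Ej, fun n hn => ?_, fun n => ⟨?_, ?_⟩, ?_⟩
  · haveI : IsEmpty (Fin (m n)) := by rw [hm n hn]; infer_instance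
    haveI : Subsingleton (Ej.X n) :=
      inferInstanceAs (Subsingleton (LinearMap.range (Matrix.toLin' (P' n))))
    exact ModuleCat.isZero_of_subsingleton _
  · exact inferInstanceAs (Module.Finite (F.obj j) (LinearMap.range (Matrix.toLin' (P' n))))
  · exact Module.Projective.of_split (incl n).hom (p n).hom (congrArg ModuleCat.Hom.hom (hip n))
  -- the comparison
  let G := ModuleCat.extendScalars.{u, u, u} ψ
  have hnat : ∀ {k l : ℕ} (M : Matrix (Fin l) (Fin k) (F.obj j)),
      G.map (mat M) = (freeIso ψ k).hom ≫ mat (M.map ψ) ≫ (freeIso ψ l).inv := fun M => by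
    rw [← Category.assoc, Iso.eq_comp_inv]
    exact freeIso_naturality ψ M
  let e : ∀ n, G.obj (X n) ≅ E.X n := fun n =>
    { hom := G.map (incl n) ≫ (freeIso ψ (m n)).hom ≫ π n
      inv := ι n ≫ (freeIso ψ (m n)).inv ≫ G.map (p n)
      hom_inv_id := by
        have h1 : G.map (mat (P' n)) = (freeIso ψ (m n)).hom ≫ π n ≫ ι n ≫ (freeIso ψ (m n)).inv := by
          rw [hnat, hP', hP, Category.assoc]
        simp only [Category.assoc]
        rw [← reassoc_of% h1, ← G.map_comp, ← G.map_comp, reassoc_of% hiP, hip, G.map_id]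
      inv_hom_id := by
        simp only [Category.assoc]
        rw [← G.map_comp_assoc, hpi, hnat, hP', hP]
        simp [hιπ', hιπ] }
  exact ⟨HomologicalComplex.Hom.isoOfComponents e fun n k hnk => by
    obtain rfl : k = n + 1 := hnk.symm
    change (e n).hom ≫ E.d n (n + 1) = G.map (Ej.d n (n + 1)) ≫ (e (n + 1)).hom
    rw [show Ej.d n (n + 1) = dd n from CochainComplex.of_d X dd n]
    simp only [e, dd, Category.assoc]
    rw [← G.map_comp_assoc, Category.assoc, Category.assoc, hpi, mat_comp, ePD, G.map_comp, Category.assoc,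
      hnat, hD', hD]
    simp [hιπ]⟩

end Cx

end Groth.Agent.PerfDesc
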